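import Cfsg.Agent.HeRecog.M8a.BS34Pow.Log0
import Cfsg.Agent.HeRecog.M8a.BS34Pow.Log1
import Cfsg.Agent.HeRecog.M8a.BS34Pow.Log2
import Cfsg.Agent.HeRecog.M8a.BS34Pow.Log3

/-! Generated: validity. -/

set_option autoImplicit false
set_option maxRecDepth 100000

namespace Cfsg.Agent.HeRecog.M8a.BS34Pow

open Cfsg.Agent.CosetCert

theorem log_ok : ∀ i, i < 77098 → data.checkLog i = true := by
  have h0 : ∀ i, i < 0 → data.checkLog i = true := forall_lt_zero
  have h1 := forall_lt_step (b := 2500) h0 logAt0 rfl
  have h2 := forall_lt_step (b := 5000) h1 logAt2500 rfl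
  have h3 := forall_lt_step (b := 7500) h2 logAt5000 rfl
  have h4 := forall_lt_step (b := 10000) h3 logAt7500 rfl
  have h5 := forall_lt_step (b := 12500) h4 logAt10000 rfl
  have h6 := forall_lt_step (b := 15000) h5 logAt12500 rfl
  have h7 := forall_lt_step (b := 17500) h6 logAt15000 rfl
  have h8 := forall_lt_step (b := 20000) h7 logAt17500 rfl
  have h9 := forall_lt_step (b := 22500) h8 logAt20000 rfl
  have h10 := forall_lt_step (b := 25000) h9 logAt22500 rfl
  have h11 := forall_lt_step (b := 27500) h10 logAt25000 rfl
  have h12 := forall_lt_step (b := 30000) h11 logAt27500 rfl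
  have h13 := forall_lt_step (b := 32500) h12 logAt30000 rfl
  have h14 := forall_lt_step (b := 35000) h13 logAt32500 rfl
  have h15 := forall_lt_step (b := 37500) h14 logAt35000 rfl
  have h16 := forall_lt_step (b := 40000) h15 logAt37500 rfl
  have h17 := forall_lt_step (b := 42500) h16 logAt40000 rfl
  have h18 := forall_lt_step (b := 45000) h17 logAt42500 rfl
  have h19 := forall_lt_step (b := 47500) h18 logAt45000 rfl
  have h20 := forall_lt_step (b := 50000) h19 logAt47500 rfl
  have h21 := forall_lt_step (b := 52500) h20 logAt50000 rfl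
  have h22 := forall_lt_step (b := 55000) h21 logAt52500 rfl
  have h23 := forall_lt_step (b := 57500) h22 logAt55000 rfl
  have h24 := forall_lt_step (b := 60000) h23 logAt57500 rfl
  have h25 := forall_lt_step (b := 62500) h24 logAt60000 rfl
  have h26 := forall_lt_step (b := 65000) h25 logAt62500 rfl
  have h27 := forall_lt_step (b := 67500) h26 logAt65000 rfl
  have h28 := forall_lt_step (b := 70000) h27 logAt67500 rfl
  have h29 := forall_lt_step (b := 72500) h28 logAt70000 rfl
  have h30 := forall_lt_step (b := 75000) h29 logAt72500 rfl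
  have h31 := forall_lt_step (b := 77098) h30 logAt75000 rfl
  exact h31

theorem mem_valid : data.MemValid where
  log := log_ok
  iv_iv := by
    have h : ∀ x : Fin 19, ivL (ivL x) = x ∧ ivL x < 19 := by decide +kernel
    exact fun x hx => h ⟨x, hx⟩
  iv_big := fun x hx => by
    have h : Nat.blt x 19 = false := eq_false_of_ne_true fun e => absurd (Nat.ble_eq.mp e) (Nat.not_lt.2 hx)
    show ivL x = x
    simp [ivL, h]
  pw := by
    have h : ∀ k : Fin 131, data.PW k = pack (data.W.getD k []) := by decide +kernel
    exact fun k hk => h ⟨k, hk⟩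
  letters := by decide +kernel
  K_small := by decide +kernel
  nR_le := by decide +kernel

theorem fits : Fits data Cfsg.Agent.HeRecog.M8a.BS34.RS (Cfsg.Agent.HeRecog.M8a.BS34.SS.map SubSpec.word) where
  K := rfl
  iv := rfl
  invol := by decide +kernel
  take := by decide +kernel
  drop := by decide +kernel

theorem walk_ok : walk data.F data.iv data.K data.Nf 69 0x89420225f0000100242400915c03e8d012f7809690825a4604db1c2591805868825a4e092df024614040da00eb9602c4802527e0089e017f080920882540e0065d02453803800800a0b09613825a4a095d0825746005f781c4f009694825a44090a3824b2000d750144bc09360024e90093a482440a07e74825a4807a3d022d9c079ba025a50093dc024f740961c82587409126811267035ce00da0208e79024d440911480239603f2a00068a03fbe40ced400049808a0a00004008994 0 (pack (((List.replicate 23 Cfsg.Agent.HeRecog.M8a.BS34.word).flatten.map Letters.dec14).map (Data.code data.iv encL))) = stop 0 0 := by decide +kernel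

end Cfsg.Agent.HeRecog.M8a.BS34Pow
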