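import Cfsg.Agent.HeRecog.M8a.BS34Pow.Defs

/-! Generated: kernel checks. -/

set_option autoImplicit false
set_option maxRecDepth 100000
set_option Elab.async false

namespace Cfsg.Agent.HeRecog.M8a.BS34Pow

open Cfsg.Agent.CosetCert

theorem logAt0 : allFrom (data.checkLog) 0 2500 = true := by decide +kernel

theorem logAt2500 : allFrom (data.checkLog) 2500 2500 = true := by decide +kernel

theorem logAt5000 : allFrom (data.checkLog) 5000 2500 = true := by decide +kernel

theorem logAt7500 : allFrom (data.checkLog) 7500 2500 = true := by decide +kernel

theorem logAt10000 : allFrom (data.checkLog) 10000 2500 = true := by decide +kernel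

theorem logAt12500 : allFrom (data.checkLog) 12500 2500 = true := by decide +kernel

theorem logAt15000 : allFrom (data.checkLog) 15000 2500 = true := by decide +kernel

theorem logAt17500 : allFrom (data.checkLog) 17500 2500 = true := by decide +kernel


end Cfsg.Agent.HeRecog.M8a.BS34Pow
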